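import Cfsg.Agent.H560.TwoM
import Cfsg.Agent.H387.VO.Main
import Cfsg.Agent.H419.Row
import Cfsg.Agent.H713.Spor.M
import Cfsg.Agent.H131.T5M13

/-!
# S4987, the row `M`, `p = 13` (helper122)

helper816's degree `47377503606648784400` is divisible by `13 ^ 3`: a character of 13-defect zero.  The two classes: orders
13 and 26.
-/

set_option autoImplicit false
set_option maxRecDepth 100000

namespace Cfsg.Agent.H122.VO

open Cfsg Cfsg.Agent.H665.NoPQ Cfsg.Agent.MonsterX

universe u

/-- a character of 13-defect zero of the Monster -/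
theorem hasDZ_thirteen {K : Type u} [Group K] [Finite K] (h : Spor.IsoM K) : HasDZ 13 K := by
  obtain ⟨χ, hχ⟩ := H560.TwoM.deg_m h 47377503606648784400 (by decide)
  refine Cfsg.Agent.H419.Row.dz_of_dvd (n := 3) χ (by rw [hχ]; norm_num) ?_ (by norm_num)
  rw [H713.Spor.M.card_eq h]
  have h13 : Nat.Prime 13 := by norm_num
  rw [show (808017424794512875886459904961710757005754368000000000 : ℕ) =
    13 ^ 3 * 367782168773105542051187940355808264454144000000000 * 1 by norm_num]
  rw [mul_one, Nat.factorization_mul (by norm_num) (by norm_num), Finsupp.add_apply, h13.factorization_pow,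
    Finsupp.single_eq_same, Nat.factorization_eq_zero_of_not_dvd (by norm_num)]

/-- elements of orders 13 and 26 -/
theorem exists_orders {K : Type u} [Group K] (h : Spor.IsoM K) :
    ∃ x y : K, orderOf x = 13 ∧ orderOf y = 26 := by
  obtain ⟨f⟩ := h
  obtain ⟨f'⟩ := Cfsg.Agent.MonsterP.Equiv.equiv
  let e : K ≃* ↥InstData.M.G := f.trans f'
  obtain ⟨x, z, t, Q, hd⟩ := H131.T5M13.model_D
  have hxz : z * x = x * z := hd.hyp.zx
  refine ⟨e.symm x, e.symm (x * z), by rw [MulEquiv.orderOf_eq, hd.hyp.hx], ?_⟩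
  rw [MulEquiv.orderOf_eq, (show Commute x z from hxz.symm).orderOf_mul_eq_mul_orderOf_of_coprime
    (by rw [hd.hyp.hx, hd.hyp.hz]; norm_num), hd.hyp.hx, hd.hyp.hz]

/-- **S4987: the Monster, `p = 13`.** -/
theorem two_m_p {K : Type u} [Group K] (h : Spor.IsoM K) : H387.VO.TwoVan 13 K := by
  have hf : Finite K := Nat.finite_of_card_ne_zero (by rw [H713.Spor.M.card_eq h]; norm_num)
  have : Fact (Nat.Prime 13) := ⟨by norm_num⟩
  obtain ⟨x, y, hx, hy⟩ := exists_orders h
  have hx' : 13 ∣ orderOf x := by rw [hx]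
  have hy' : 13 ∣ orderOf y := by rw [hy]; norm_num
  exact H387.VO.TwoVan.of_order hx' hy' (H713.HasDZ.vz (hasDZ_thirteen h) hx') (H713.HasDZ.vz (hasDZ_thirteen h) hy') (by
    rw [hx, hy]; norm_num)

end Cfsg.Agent.H122.VO
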